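import Groth.Agent.DRing.K226.TorTri
import Groth.Agent.PerfB.BoundedInd
import Groth.Agent.CalgB.DerTri
import Groth.Agent.PerfC.AdjD
import Mathlib.Algebra.Homology.HomotopyCategory.MappingCocone

/-!
# LEMMA T: flat models of complexes of comodules of finite Tor-amplitude

`C` abelian, `U : C ⥤ ModuleCat A` exact and faithful, `V` an exact right adjoint, `U V` preserves flats.
An object `X` of `D(C)` such that `U X` has Tor-amplitude in `[a, b]` is isomorphic to a complex `F`
strictly in degrees `[a, b]` such that all `U (F.X i)` are flat.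
-/

set_option autoImplicit false
universe u v w

open CategoryTheory CategoryTheory.Limits CategoryTheory.Pretriangulated
attribute [local instance] HasDerivedCategory.standard

namespace Groth.Agent.ResProp.EF.K119

open DRing K226.TorTri K227.PerfFlat K227.TorCrit Groth.Agent.PerfB.BoundedInd

section Pre

variable {D : Type*} [Category* D] [Preadditive D] [HasZeroObject D] [HasShift D ℤ]
  [∀ n : ℤ, (shiftFunctor D n).Additive] [Pretriangulated D]

lemma dist_of_iso₁ {X X' Y Z : D} {f : X ⟶ Y} {g : Y ⟶ Z} {h : Z ⟶ X⟦(1 : ℤ)⟧}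
    (hT : Triangle.mk f g h ∈ distTriang D) (e : X' ≅ X) :
    Triangle.mk (e.hom ≫ f) g (h ≫ e.inv⟦1⟧') ∈ distTriang D := by
  refine isomorphic_distinguished _ hT _ (Triangle.isoMk _ _ e (Iso.refl Y) (Iso.refl Z) ?_ ?_ ?_)
  · exact Category.comp_id _
  · exact (Category.comp_id _).trans (Category.id_comp _).symm
  · change (h ≫ e.inv⟦1⟧') ≫ e.hom⟦1⟧' = 𝟙 Z ≫ h
    rw [Category.assoc, ← Functor.map_comp, e.inv_hom_id, CategoryTheory.Functor.map_id, Category.comp_id, Category.id_comp]

lemma dist_of_iso₂ {X Y Y' Z : D} {f : X ⟶ Y} {g : Y ⟶ Z} {h : Z ⟶ X⟦(1 : ℤ)⟧}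
    (hT : Triangle.mk f g h ∈ distTriang D) (e : Y ≅ Y') :
    Triangle.mk (f ≫ e.hom) (e.inv ≫ g) h ∈ distTriang D := by
  refine isomorphic_distinguished _ hT _ (Triangle.isoMk _ _ (Iso.refl X) e.symm (Iso.refl Z) ?_ ?_ ?_)
  · change (f ≫ e.hom) ≫ e.inv = 𝟙 X ≫ f
    rw [Category.assoc, e.hom_inv_id, Category.comp_id, Category.id_comp]
  · exact Category.comp_id _
  · change h ≫ (𝟙 X)⟦1⟧' = 𝟙 Z ≫ h
    rw [CategoryTheory.Functor.map_id, Category.comp_id, Category.id_comp]

lemma dist_of_iso₃ {X Y Z Z' : D} {f : X ⟶ Y} {g : Y ⟶ Z} {h : Z ⟶ X⟦(1 : ℤ)⟧}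
    (hT : Triangle.mk f g h ∈ distTriang D) (e : Z ≅ Z') :
    Triangle.mk f (g ≫ e.hom) (e.inv ≫ h) ∈ distTriang D := by
  refine isomorphic_distinguished _ hT _ (Triangle.isoMk _ _ (Iso.refl X) (Iso.refl Y) e.symm ?_ ?_ ?_)
  · exact (Category.comp_id _).trans (Category.id_comp _).symm
  · change (g ≫ e.hom) ≫ e.inv = 𝟙 Y ≫ g
    rw [Category.assoc, e.hom_inv_id, Category.comp_id, Category.id_comp]
  · change (e.inv ≫ h) ≫ (𝟙 X)⟦1⟧' = e.inv ≫ h
    rw [CategoryTheory.Functor.map_id, Category.comp_id]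

end Pre

section Ring

variable {A : Type u} [CommRing A]

lemma torAmp_single (M : ModuleCat.{u} A) (h : Module.Flat A M) (a : ℤ) :
    HasTorAmplitudeIn A a a (toD ((HomologicalComplex.single (ModuleCat.{u} A) (ComplexShape.up ℤ) a).obj M)) := by
  refine ⟨_, ?_, ?_, ⟨Iso.refl _⟩⟩
  · intro i hi
    exact HomologicalComplex.isZero_single_obj_X (ComplexShape.up ℤ) a M i (by omega)
  · intro i
    by_cases hi : i = a
    · subst hi
      exact Module.Flat.of_linearEquiv
        (HomologicalComplex.singleObjXSelf (ComplexShape.up ℤ) i M).toLinearEquiv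
    · have := ModuleCat.subsingleton_of_isZero
        (HomologicalComplex.isZero_single_obj_X (ComplexShape.up ℤ) a M i hi)
      change Module.Flat A (((HomologicalComplex.single (ModuleCat.{u} A) (ComplexShape.up ℤ) a).obj M).X i)
      infer_instance

lemma isLE_of_torAmp {K : Dual.D A} {a b : ℤ} (h : HasTorAmplitudeIn A a b K) :
    DerivedCategory.IsLE K b := by
  rw [DerivedCategory.isLE_iff]
  intro i hi
  have := subsingleton_HD_of_torAmp h i (Or.inr hi)
  exact @ModuleCat.isZero_of_subsingleton A _ _ this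

lemma isGE_of_torAmp {K : Dual.D A} {a b : ℤ} (h : HasTorAmplitudeIn A a b K) :
    DerivedCategory.IsGE K a := by
  rw [DerivedCategory.isGE_iff]
  intro i hi
  have := subsingleton_HD_of_torAmp h i (Or.inl hi)
  exact @ModuleCat.isZero_of_subsingleton A _ _ this

/-- the cone of the map to the lowest term -/
lemma exists_toLowest (E : Cx A) (a b : ℤ) (hE : VanishesOutside E a (b + 1)) (hflat : TermwiseFlat E) :
    ∃ (p : toD E ⟶ toD ((HomologicalComplex.single (ModuleCat.{u} A) (ComplexShape.up ℤ) a).obj (E.X a)))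
      (Z : Dual.D A) (q : _ ⟶ Z) (r : Z ⟶ (toD E)⟦(1 : ℤ)⟧),
      Triangle.mk p q r ∈ distTriang (Dual.D A) ∧ HasTorAmplitudeIn A a b Z := by
  have hlow : ∀ i, i < a → IsZero (E.X i) := fun i hi => hE i (Or.inl hi)
  let SC := ShortComplex.mk (kernel.ι (toLowest E a hlow)) (toLowest E a hlow)
    (kernel.condition _)
  have hSC : SC.ShortExact := shortExact E a hlow
  have hSCi : ∀ i : ℤ, (SC.map (HomologicalComplex.eval (ModuleCat.{u} A) (ComplexShape.up ℤ) i)).ShortExact :=
    fun i => hSC.map_of_exact _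
  have hiso : ∀ i : ℤ, i ≠ a → IsIso ((kernel.ι (toLowest E a hlow)).f i) := by
    intro i hi
    have hz : IsZero (SC.map (HomologicalComplex.eval (ModuleCat.{u} A) (ComplexShape.up ℤ) i)).X₃ :=
      HomologicalComplex.isZero_single_obj_X (ComplexShape.up ℤ) a (E.X a) i hi
    exact (hSCi i).isIso_f_iff.2 hz
  have hzero : IsZero ((kernel (toLowest E a hlow)).X a) := by
    have : IsIso (SC.map (HomologicalComplex.eval (ModuleCat.{u} A) (ComplexShape.up ℤ) a)).g := by
      change IsIso ((toLowest E a hlow).f a)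
      dsimp [toLowest]
      rw [HomologicalComplex.mkHomToSingle_f]
      infer_instance
    exact (hSCi a).isIso_g_iff.1 this
  have hT := rot_of_distTriang _ (DerivedCategory.triangleOfSES_distinguished hSC)
  refine ⟨_, _, _, _, hT, ?_⟩
  have h1 : HasTorAmplitudeIn A (a + 1) (b + 1) (toD (kernel (toLowest E a hlow))) := by
    refine ⟨_, fun i hi => ?_, fun i => ?_, ⟨Iso.refl _⟩⟩
    · by_cases hia : i = a
      · subst hia; exact hzero
      · have := hiso i hia
        exact (hE i (by omega)).of_iso (asIso ((kernel.ι (toLowest E a hlow)).f i))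
    · by_cases hia : i = a
      · subst hia
        have := ModuleCat.subsingleton_of_isZero hzero
        infer_instance
      · have := hiso i hia
        have := hflat i
        exact Module.Flat.of_linearEquiv (asIso ((kernel.ι (toLowest E a hlow)).f i)).toLinearEquiv
  have h2 := torAmp_shift 1 h1
  rw [add_sub_cancel_right, add_sub_cancel_right] at h2
  exact h2

end Ring

section Step

variable {A : Type u} [CommRing A] {C : Type w} [Category.{v} C] [Abelian C]
  {U : C ⥤ ModuleCat.{u} A} [U.Additive] [PreservesFiniteLimits U] [PreservesFiniteColimits U]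
  {V : ModuleCat.{u} A ⥤ C} [V.Additive] [PreservesFiniteLimits V] [PreservesFiniteColimits V]
  (adj : U ⊣ V)

/-- `V (G[-a]) ≅ (V G)[-a]` -/
noncomputable def mapSingleIso {C₁ : Type*} [Category* C₁] [Abelian C₁] {C₂ : Type*} [Category* C₂]
    [Abelian C₂] (F : C₁ ⥤ C₂) [F.Additive] [PreservesFiniteLimits F] [PreservesFiniteColimits F] (a : ℤ) (G : C₁) :
    F.mapDerivedCategory.obj (DerivedCategory.Q.obj
      ((HomologicalComplex.single C₁ (ComplexShape.up ℤ) a).obj G)) ≅
    DerivedCategory.Q.obj ((HomologicalComplex.single C₂ (ComplexShape.up ℤ) a).obj (F.obj G)) :=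
  F.mapDerivedCategoryFactors.app _ ≪≫ DerivedCategory.Q.mapIso
    ((HomologicalComplex.singleMapHomologicalComplex F (ComplexShape.up ℤ) a).app G)

include adj in
theorem step (hUV : ∀ N : ModuleCat.{u} A, Module.Flat A N → Module.Flat A (U.obj (V.obj N)))
    (X : DerivedCategory C) (a b : ℤ) (hab : a ≤ b)
    (h : HasTorAmplitudeIn A a (b + 1) (U.mapDerivedCategory.obj X)) :
    ∃ (G : ModuleCat.{u} A) (_ : Module.Flat A G) (X₂ : DerivedCategory C)
      (f : X ⟶ DerivedCategory.Q.obj
        ((HomologicalComplex.single C (ComplexShape.up ℤ) a).obj (V.obj G)))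
      (g : _ ⟶ X₂) (k : X₂ ⟶ X⟦(1 : ℤ)⟧), Triangle.mk f g k ∈ distTriang (DerivedCategory C) ∧
      HasTorAmplitudeIn A a b (U.mapDerivedCategory.obj X₂) := by
  obtain ⟨E, hE, hflat, ⟨e⟩⟩ := h
  obtain ⟨p, Z, q, r, hpqr, hZ⟩ := exists_toLowest E a b hE hflat
  let S := toD ((HomologicalComplex.single (ModuleCat.{u} A) (ComplexShape.up ℤ) a).obj (E.X a))
  let dadj := Groth.Agent.PerfC.AdjD.adjD adj
  let f₀ : X ⟶ V.mapDerivedCategory.obj S := dadj.homEquiv _ _ (e.inv ≫ p)
  obtain ⟨X₂, g, k, hT⟩ := distinguished_cocone_triangle f₀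
  refine ⟨E.X a, hflat a, X₂, f₀ ≫ (mapSingleIso V a (E.X a)).hom,
    (mapSingleIso V a (E.X a)).inv ≫ g, k, ?_, ?_⟩
  · exact dist_of_iso₂ hT (mapSingleIso V a (E.X a))
  · -- the octahedron
    have hUT := U.mapDerivedCategory.map_distinguished _ hT
    have comm : U.mapDerivedCategory.map f₀ ≫ dadj.counit.app S = e.inv ≫ p := by
      rw [← dadj.homEquiv_counit (X := X) (Y := S) (g := f₀)]
      exact (dadj.homEquiv X S).symm_apply_apply _
    have h13 : Triangle.mk (e.inv ≫ p) q (r ≫ e.hom⟦1⟧') ∈ distTriang (Dual.D A) :=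
      dist_of_iso₁ hpqr e.symm
    obtain ⟨Z₂₃, v₂₃, w₂₃, h23⟩ := distinguished_cocone_triangle (dadj.counit.app S)
    have o := Triangulated.someOctahedron comm hUT h23 h13
    have hS : HasTorAmplitudeIn A a a S := torAmp_single _ (hflat a) a
    have hUVS : HasTorAmplitudeIn A a a (U.mapDerivedCategory.obj (V.mapDerivedCategory.obj S)) :=
      torAmp_of_iso ((U.mapDerivedCategory.mapIso (mapSingleIso V a (E.X a)) ≪≫
        mapSingleIso U a (V.obj (E.X a))).symm) (torAmp_single _ (hUV _ (hflat a)) a)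
    have h3 : HasTorAmplitudeIn A (a - 1) b Z₂₃ :=
      torAmp_obj₃ h23 (torAmp_mono (by omega) (by omega) hUVS) (torAmp_mono (by omega) (by omega) hS)
    have h1 := torAmp_obj₁ o.mem (a := a - 1) (b := b)
      (torAmp_mono (by omega) (by omega) hZ) h3
    rw [sub_add_cancel] at h1
    refine torAmp_of_subsingleton_HD h1 ?_
    intro i hi
    have h4 : (U.mapDerivedCategory.obj X₂).IsLE b :=
      Groth.Agent.CalgB.DerTri.isLE_obj₃ hUT b
        (isLE_of_torAmp (torAmp_of_iso e ⟨E, hE, hflat, ⟨Iso.refl _⟩⟩))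
        (isLE_of_torAmp (torAmp_mono le_rfl hab hUVS))
    rw [DerivedCategory.isLE_iff] at h4
    exact ModuleCat.subsingleton_of_isZero (h4 i hi)

end Step

section Honest

variable {C : Type w} [Category.{v} C] [Abelian C]

/-- A morphism of `D(C)` from an object in degree `a` to a complex in degrees `≥ a` is honest. -/
lemma exists_honest (Y : C) (a : ℤ) (F : CochainComplex C ℤ) [F.IsStrictlyGE a]
    (ψ : DerivedCategory.Q.obj ((HomologicalComplex.single C (ComplexShape.up ℤ) a).obj Y) ⟶
      DerivedCategory.Q.obj F) :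
    ∃ γ : (HomologicalComplex.single C (ComplexShape.up ℤ) a).obj Y ⟶ F, DerivedCategory.Q.map γ = ψ := by
  obtain ⟨Y', hY', g, s, hs, rfl⟩ := DerivedCategory.left_fac_of_isStrictlyGE ψ a
  have hs' : QuasiIso s := by rwa [DerivedCategory.isIso_Q_map_iff_quasiIso] at hs
  have h1 : F.d (a - 1) a = 0 := (F.isZero_of_isStrictlyGE a (a - 1) (by omega)).eq_of_src _ _
  have h2 : Y'.d (a - 1) a = 0 := (Y'.isZero_of_isStrictlyGE a (a - 1) (by omega)).eq_of_src _ _
  have hpF : IsIso (F.homologyπ a) := F.isIso_homologyπ (a - 1) a (by simp) h1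
  have hpY : IsIso (Y'.homologyπ a) := Y'.isIso_homologyπ (a - 1) a (by simp) h2
  have hc : IsIso (HomologicalComplex.cyclesMap s a) := by
    have e : HomologicalComplex.cyclesMap s a =
        F.homologyπ a ≫ HomologicalComplex.homologyMap s a ≫ inv (Y'.homologyπ a) := by
      rw [HomologicalComplex.homologyπ_naturality_assoc, IsIso.hom_inv_id, Category.comp_id]
    rw [e]
    infer_instance
  let e₀ := HomologicalComplex.singleObjXSelf (ComplexShape.up ℤ) a Y
  have hg0 : g.f a ≫ Y'.d a (a + 1) = 0 := by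
    rw [g.comm, HomologicalComplex.single_obj_d, zero_comp]
  let k : ((HomologicalComplex.single C (ComplexShape.up ℤ) a).obj Y).X a ⟶ F.X a :=
    Y'.liftCycles (g.f a) (a + 1) (by simp) hg0 ≫ inv (HomologicalComplex.cyclesMap s a) ≫ F.iCycles a
  have hk : k ≫ s.f a = g.f a := by
    simp only [k, Category.assoc]
    rw [← HomologicalComplex.cyclesMap_i, IsIso.inv_hom_id_assoc, HomologicalComplex.liftCycles_i]
  let γ : (HomologicalComplex.single C (ComplexShape.up ℤ) a).obj Y ⟶ F :=
    HomologicalComplex.mkHomFromSingle (e₀.inv ≫ k) (fun i hi => by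
      simp only [k, Category.assoc, HomologicalComplex.iCycles_d, comp_zero])
  refine ⟨γ, ?_⟩
  rw [← cancel_mono (DerivedCategory.Q.map s), Category.assoc, IsIso.inv_hom_id, Category.comp_id,
    ← Functor.map_comp]
  congr 1
  apply HomologicalComplex.from_single_hom_ext
  rw [HomologicalComplex.comp_f, HomologicalComplex.mkHomFromSingle_f, Category.assoc, Category.assoc, hk]
  exact e₀.hom_inv_id_assoc _

end Honest

section Main

variable {A : Type u} [CommRing A] {C : Type w} [Category.{v} C] [Abelian C]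
  {U : C ⥤ ModuleCat.{u} A} [U.Additive] [PreservesFiniteLimits U] [PreservesFiniteColimits U] [U.Faithful]
  {V : ModuleCat.{u} A ⥤ C} [V.Additive] [PreservesFiniteLimits V] [PreservesFiniteColimits V]
  (adj : U ⊣ V)

omit [PreservesFiniteLimits U] [PreservesFiniteColimits U] in
/-- cohomology can be tested after `U` -/
lemma exactAt_of_map (K : CochainComplex C ℤ) (i : ℤ)
    (h : ((U.mapHomologicalComplex (ComplexShape.up ℤ)).obj K).ExactAt i) : K.ExactAt i :=
  U.reflects_exact_of_faithful (K.sc i) h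

lemma isLE_of_map (X : DerivedCategory C) (b : ℤ) (h : (U.mapDerivedCategory.obj X).IsLE b) : X.IsLE b := by
  let e := DerivedCategory.Q.objObjPreimageIso X
  have h1 : DerivedCategory.IsLE (DerivedCategory.Q.obj
      ((U.mapHomologicalComplex (ComplexShape.up ℤ)).obj (DerivedCategory.Q.objPreimage X))) b :=
    DerivedCategory.TStructure.t.isLE_of_iso
      ((U.mapDerivedCategory.mapIso e.symm) ≪≫ U.mapDerivedCategoryFactors.app _) b
  rw [DerivedCategory.isLE_Q_obj_iff, CochainComplex.isLE_iff] at h1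
  have h2 : DerivedCategory.IsLE (DerivedCategory.Q.obj (DerivedCategory.Q.objPreimage X)) b := by
    rw [DerivedCategory.isLE_Q_obj_iff, CochainComplex.isLE_iff]
    exact fun i hi => exactAt_of_map (U := U) _ i (h1 i hi)
  exact DerivedCategory.TStructure.t.isLE_of_iso e b

lemma isGE_of_map (X : DerivedCategory C) (b : ℤ) (h : (U.mapDerivedCategory.obj X).IsGE b) : X.IsGE b := by
  let e := DerivedCategory.Q.objObjPreimageIso X
  have h1 : DerivedCategory.IsGE (DerivedCategory.Q.obj
      ((U.mapHomologicalComplex (ComplexShape.up ℤ)).obj (DerivedCategory.Q.objPreimage X))) b :=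
    DerivedCategory.TStructure.t.isGE_of_iso
      ((U.mapDerivedCategory.mapIso e.symm) ≪≫ U.mapDerivedCategoryFactors.app _) b
  rw [DerivedCategory.isGE_Q_obj_iff, CochainComplex.isGE_iff] at h1
  have h2 : DerivedCategory.IsGE (DerivedCategory.Q.obj (DerivedCategory.Q.objPreimage X)) b := by
    rw [DerivedCategory.isGE_Q_obj_iff, CochainComplex.isGE_iff]
    exact fun i hi => exactAt_of_map (U := U) _ i (h1 i hi)
  exact DerivedCategory.TStructure.t.isGE_of_iso e b

lemma flat_of_torAmp_single (M : ModuleCat.{u} A) (a : ℤ)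
    (h : HasTorAmplitudeIn A a a (toD ((HomologicalComplex.single (ModuleCat.{u} A) (ComplexShape.up ℤ) a).obj M))) :
    Module.Flat A M := by
  obtain ⟨E, hE, hflat, ⟨e⟩⟩ := h
  have h1 : E.IsStrictlyGE a := by
    rw [CochainComplex.isStrictlyGE_iff]
    exact fun i hi => hE i (Or.inl hi)
  have h2 : E.IsStrictlyLE a := by
    rw [CochainComplex.isStrictlyLE_iff]
    exact fun i hi => hE i (Or.inr hi)
  obtain ⟨Y, ⟨e'⟩⟩ := CochainComplex.exists_iso_single E a
  have hY : Module.Flat A Y := by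
    have h3 : Module.Flat A (E.X a) := hflat a
    have e3 : E.X a ≅ Y := (HomologicalComplex.eval _ _ a).mapIso e' ≪≫
      HomologicalComplex.singleObjXSelf (ComplexShape.up ℤ) a Y
    exact Module.Flat.of_linearEquiv e3.symm.toLinearEquiv
  have e2 : Y ≅ M := (HomologicalComplex.homologyFunctorSingleIso (ModuleCat.{u} A) (ComplexShape.up ℤ) a).symm.app Y ≪≫
    (((DerivedCategory.homologyFunctorFactors (ModuleCat.{u} A) a).app _).symm ≪≫
      (DerivedCategory.homologyFunctor (ModuleCat.{u} A) a).mapIso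
        ((DerivedCategory.Q.mapIso e').symm ≪≫ e) ≪≫
      (DerivedCategory.homologyFunctorFactors (ModuleCat.{u} A) a).app _) ≪≫
    (HomologicalComplex.homologyFunctorSingleIso (ModuleCat.{u} A) (ComplexShape.up ℤ) a).app M
  exact Module.Flat.of_linearEquiv e2.symm.toLinearEquiv

lemma flat_map_biprod (P Q : C) (hP : Module.Flat A (U.obj P)) (hQ : Module.Flat A (U.obj Q)) :
    Module.Flat A (U.obj (P ⊞ Q)) := by
  have h0 : PreservesBinaryBiproducts U := preservesBinaryBiproducts_of_preservesBiproducts U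
  have e : U.obj (P ⊞ Q) ≅ ModuleCat.of A (U.obj P × U.obj Q) :=
    U.mapBiprod P Q ≪≫ ModuleCat.biprodIsoProd _ _
  have h : Module.Flat A (U.obj P × U.obj Q) := Groth.Agent.Flat2C.UnivInjMod.flat_prod
  exact Module.Flat.of_linearEquiv e.toLinearEquiv

lemma flat_map_isZero (P : C) (hP : IsZero P) : Module.Flat A (U.obj P) := by
  have := ModuleCat.subsingleton_of_isZero (U.map_isZero hP)
  infer_instance

include adj in
theorem aux (hUV : ∀ N : ModuleCat.{u} A, Module.Flat A N → Module.Flat A (U.obj (V.obj N))) (a : ℤ)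
    (n : ℕ) : ∀ (X : DerivedCategory C), HasTorAmplitudeIn A a (a + n) (U.mapDerivedCategory.obj X) →
    ∃ F : CochainComplex C ℤ, (∀ i, i < a ∨ a + n < i → IsZero (F.X i)) ∧
      (∀ i, Module.Flat A (U.obj (F.X i))) ∧ Nonempty (DerivedCategory.Q.obj F ≅ X) := by
  induction n with
  | zero =>
    intro X hX
    rw [Nat.cast_zero, add_zero] at hX
    have h1 := isLE_of_map (U := U) X a (isLE_of_torAmp hX)
    have h2 := isGE_of_map (U := U) X a (isGE_of_torAmp hX)
    obtain ⟨K, hK1, hK2, ⟨e⟩⟩ := DerivedCategory.exists_iso_Q_obj_of_isGE_of_isLE X a a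
    obtain ⟨Y, ⟨e'⟩⟩ := CochainComplex.exists_iso_single K a
    have hY : Module.Flat A (U.obj Y) := by
      refine flat_of_torAmp_single _ a (torAmp_of_iso ?_ hX)
      exact U.mapDerivedCategory.mapIso (e ≪≫ DerivedCategory.Q.mapIso e') ≪≫ mapSingleIso U a Y
    refine ⟨(HomologicalComplex.single C (ComplexShape.up ℤ) a).obj Y, fun i hi => ?_, fun i => ?_,
      ⟨(e ≪≫ DerivedCategory.Q.mapIso e').symm⟩⟩
    · exact HomologicalComplex.isZero_single_obj_X (ComplexShape.up ℤ) a Y i (by push_cast at hi; omega)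
    · by_cases hi : i = a
      · subst hi
        exact Module.Flat.of_linearEquiv
          (U.mapIso (HomologicalComplex.singleObjXSelf (ComplexShape.up ℤ) i Y)).toLinearEquiv
      · exact flat_map_isZero _ (HomologicalComplex.isZero_single_obj_X (ComplexShape.up ℤ) a Y i hi)
  | succ n ih =>
    intro X hX
    have hX' : HasTorAmplitudeIn A a ((a + n) + 1) (U.mapDerivedCategory.obj X) := by
      convert hX using 1
      push_cast
      ring
    obtain ⟨G, hG, X₂, f, g, k, hT, hX₂⟩ := step adj hUV X a (a + n) (by omega) hX'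
    obtain ⟨F₂, hF₂, hF₂flat, ⟨e₂⟩⟩ := ih X₂ hX₂
    have hGE : F₂.IsStrictlyGE a := by
      rw [CochainComplex.isStrictlyGE_iff]
      exact fun i hi => hF₂ i (Or.inl hi)
    obtain ⟨γ, hγ⟩ := exists_honest (V.obj G) a F₂ (g ≫ e₂.inv)
    refine ⟨CochainComplex.mappingCocone γ, fun i hi => ?_, fun i => ?_, ?_⟩
    · change IsZero ((CochainComplex.mappingCone γ).X (i + -1))
      rw [CochainComplex.mappingCone.isZero_X_iff]
      push_cast at hi
      exact ⟨HomologicalComplex.isZero_single_obj_X (ComplexShape.up ℤ) a _ _ (by omega), hF₂ _ (by omega)⟩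
    · change Module.Flat A (U.obj ((CochainComplex.mappingCone γ).X (i + -1)))
      have e3 := HomologicalComplex.homotopyCofiber.XIsoBiprod γ (i + -1) (i + -1 + 1) rfl
      have h4 : Module.Flat A (U.obj (((HomologicalComplex.single C (ComplexShape.up ℤ) a).obj
          (V.obj G)).X (i + -1 + 1) ⊞ F₂.X (i + -1))) := by
        refine flat_map_biprod _ _ ?_ (hF₂flat _)
        by_cases hi : i + -1 + 1 = a
        · rw [hi]
          have := hUV G hG
          exact Module.Flat.of_linearEquiv
            (U.mapIso (HomologicalComplex.singleObjXSelf (ComplexShape.up ℤ) a (V.obj G))).toLinearEquiv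
        · exact flat_map_isZero _ (HomologicalComplex.isZero_single_obj_X (ComplexShape.up ℤ) a _ _ hi)
      exact Module.Flat.of_linearEquiv (U.mapIso e3).toLinearEquiv
    · have hT1 := rot_of_distTriang _ (DerivedCategory.mappingCocone_triangle_distinguished γ)
      have hT2 := rot_of_distTriang _ (dist_of_iso₃ hT e₂.symm)
      have e4 := isoTriangleOfIso₁₂ _ _ hT1 hT2 (Iso.refl _) (Iso.refl _) (by
        refine (Category.comp_id _).trans ?_
        refine Eq.trans ?_ (Category.id_comp _).symm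
        exact hγ)
      exact ⟨(shiftFunctor (DerivedCategory C) (1 : ℤ)).preimageIso (Triangle.π₃.mapIso e4)⟩

include adj in
/-- **LEMMA T**, derived category form. -/
theorem exists_flat_model (hUV : ∀ N : ModuleCat.{u} A, Module.Flat A N → Module.Flat A (U.obj (V.obj N)))
    (X : DerivedCategory C) (a b : ℤ) (hab : a ≤ b)
    (h : HasTorAmplitudeIn A a b (U.mapDerivedCategory.obj X)) :
    ∃ F : CochainComplex C ℤ, F.IsStrictlyGE a ∧ F.IsStrictlyLE b ∧
      (∀ i, Module.Flat A (U.obj (F.X i))) ∧ Nonempty (DerivedCategory.Q.obj F ≅ X) := by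
  have hb : a + ((b - a).toNat : ℤ) = b := by omega
  obtain ⟨F, hF, hflat, e⟩ := aux adj hUV a (b - a).toNat X (by rwa [hb])
  refine ⟨F, ?_, ?_, hflat, e⟩
  · rw [CochainComplex.isStrictlyGE_iff]
    exact fun i hi => hF i (Or.inl hi)
  · rw [CochainComplex.isStrictlyLE_iff]
    exact fun i hi => hF i (Or.inr (by omega))

include adj in
/-- **LEMMA T**, honest complexes. -/
theorem exists_roof (hUV : ∀ N : ModuleCat.{u} A, Module.Flat A N → Module.Flat A (U.obj (V.obj N)))
    (K : CochainComplex C ℤ) (a b a' b' : ℤ) (hab : a ≤ b) (haa' : a' ≤ a)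
    [K.IsStrictlyGE a'] [K.IsStrictlyLE b']
    (h : HasTorAmplitudeIn A a b (toD ((U.mapHomologicalComplex (ComplexShape.up ℤ)).obj K))) :
    ∃ (W F : CochainComplex C ℤ) (s : W ⟶ K) (t : W ⟶ F), QuasiIso s ∧ QuasiIso t ∧
      W.IsStrictlyGE a' ∧ W.IsStrictlyLE b' ∧ F.IsStrictlyGE a ∧ F.IsStrictlyLE b ∧
      ∀ i, Module.Flat A (U.obj (F.X i)) := by
  obtain ⟨F, h1, h2, h3, ⟨e⟩⟩ := exists_flat_model adj hUV (DerivedCategory.Q.obj K) a b hab
    (torAmp_of_iso (U.mapDerivedCategoryFactors.app K).symm h)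
  have h4 : F.IsStrictlyGE a' := F.isStrictlyGE_of_ge a' a haa'
  obtain ⟨W, h5, h6, s, hs, t, ht⟩ :=
    DerivedCategory.right_fac_of_isStrictlyLE_of_isStrictlyGE a' b' e.inv
  have ht' : IsIso (DerivedCategory.Q.map t) := by
    have : DerivedCategory.Q.map t = DerivedCategory.Q.map s ≫ e.inv := by
      rw [ht, IsIso.hom_inv_id_assoc]
    rw [this]
    infer_instance
  rw [DerivedCategory.isIso_Q_map_iff_quasiIso] at hs ht'
  exact ⟨W, F, s, t, hs, ht', h5, h6, h1, h2, h3⟩

end Main

end Groth.Agent.ResProp.EF.K119
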