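import Groth.Agent.ResProp.EF.K119.LemT
import Groth.Agent.ResProp.EF.K294.Defs
import Groth.Agent.DRing.K226.KFlatSymm
import Groth.Agent.PerfB.KProjTop

/-!
# LEMMA T for the abstract charts of K294
-/

set_option autoImplicit false
universe u v w

open CategoryTheory CategoryTheory.Limits CategoryTheory.Pretriangulated MonoidalCategory HomologicalComplex
attribute [local instance] HasDerivedCategory.standard

namespace Groth.Agent.ResProp.EF.K119

open DRing Groth.Agent.Flat2C.TorAmpRestr K226.TorTri K226.KFlat K227.PerfFlat K227.TorCrit Groth.Agent.ResProp.EF.K294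
  Groth.Agent.PerfB.RingKFlat Groth.Agent.Dcoh.KFlatAbs Groth.Agent.Dcoh.KFlatSingle

variable {A : Type u} [CommRing A]

/-- `P ⊗ N[0] ≅ P ⊗ N` -/
noncomputable def tensSingleIso (P : CM A) (N : ModuleCat.{u} A) :
    tensorCx P N ≅ tens P ((single (ModuleCat.{u} A) (ComplexShape.up ℤ) 0).obj N) :=
  singleIso (TR A) P N

/-- a lower Tor bound and an upper bound for the cohomology give Tor-amplitude -/
theorem torAmp_of_torGE (M : CM A) (a b : ℤ) (hM : TorGE a M) (hb : ∀ i, b < i → M.ExactAt i) :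
    HasTorAmplitudeIn A a b (toD M) := by
  obtain ⟨P, hP1, hP2, ⟨e⟩⟩ := exists_projective_rep (toD M) b
    (fun i hi => (exactAt_iff_subsingleton_HD M i).1 (hb i hi))
  have hPle : P.IsStrictlyLE b := by
    rw [CochainComplex.isStrictlyLE_iff]
    exact hP1
  have hPproj := CochainComplex.isKProjective_of_projective P b
  obtain ⟨p, hp⟩ := Groth.Agent.PerfB.KProjTop.exists_map_eq e.hom
  have hpq : QuasiIso p := by
    have : IsIso (DerivedCategory.Q.map p) := by rw [hp]; infer_instance
    rwa [DerivedCategory.isIso_Q_map_iff_quasiIso] at this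
  have hPf : ∀ i, Module.Flat A (P.X i) := fun i => flat_of_projective (hP2 i)
  have hPk : KFl (TR A) P := kfl_of_boundedAbove P b hP1 hPf
  refine torAmp_of_iso e ?_
  rw [torAmp_iff_tensorCx P b hP1 hPf]
  rintro N i (hi | hi)
  · obtain ⟨L, q, hL, hL', -, hq⟩ := Groth.Agent.Dcoh.LeftRes.exists_resolution_of_isStrictlyLE
      (goodClass_projective A) ((single (ModuleCat.{u} A) (ComplexShape.up ℤ) 0).obj N) 0
    have hLf : ∀ i, Module.Flat A (L.X i) := fun i => flat_of_projective (hL' i)
    have hLk : KFl (TR A) L := kfl_of_boundedAbove L 0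
      (fun i hi => L.isZero_of_isStrictlyLE 0 i hi) hLf
    have hLt : IsTest L := ⟨hL, hLf, fun i hi => by
      rw [exactAt_iff_of_quasiIsoAt q i]
      exact ExactAt.of_isZero (isZero_single_obj_X (ComplexShape.up ℤ) 0 N i (by omega))⟩
    have h1 : (tens M L).ExactAt i := hM L hLt i hi
    have h2 : QuasiIso (((TR A).map₂CochainComplex.map p).app L) := hLk.quasiIso p
    have h3 : (tens P L).ExactAt i :=
      (exactAt_iff_of_quasiIsoAt (((TR A).map₂CochainComplex.map p).app L) i).2 h1
    have h4 : QuasiIso (((TR A).map₂CochainComplex.obj P).map q) := quasiIso_whiskerLeft hPk q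
    have h5 := (exactAt_iff_of_quasiIsoAt (((TR A).map₂CochainComplex.obj P).map q) i).1 h3
    exact h5.of_iso (tensSingleIso P N).symm
  · exact ExactAt.of_isZero ((tensorRight N).map_isZero (hP1 i hi))

/-- Tor-amplitude implies the lower Tor bound -/
theorem torGE_of_torAmp (M : CM A) (a b : ℤ) (h : HasTorAmplitudeIn A a b (toD M)) : TorGE a M := by
  obtain ⟨P, hP1, hP2, ⟨e⟩⟩ := exists_projective_rep (toD M) b
    (fun i hi => subsingleton_HD_of_torAmp h i (Or.inr hi))
  have hPle : P.IsStrictlyLE b := by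
    rw [CochainComplex.isStrictlyLE_iff]
    exact hP1
  have hPproj := CochainComplex.isKProjective_of_projective P b
  obtain ⟨p, hp⟩ := Groth.Agent.PerfB.KProjTop.exists_map_eq e.hom
  have hpq : QuasiIso p := by
    have : IsIso (DerivedCategory.Q.map p) := by rw [hp]; infer_instance
    rwa [DerivedCategory.isIso_Q_map_iff_quasiIso] at this
  have hPf : ∀ i, Module.Flat A (P.X i) := fun i => flat_of_projective (hP2 i)
  have hPk : KFl (TR A) P := kfl_of_boundedAbove P b hP1 hPf
  have h' := (torAmp_iff_tensorCx P b hP1 hPf a b).1 (torAmp_of_iso e.symm h)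
  intro L hL i hi
  have hLk : KFl (TR A) L := kfl_of_boundedAbove L 0
    (fun i hi => (CochainComplex.isStrictlyLE_iff L 0).1 hL.le i hi) hL.flat
  -- `L` resolves a module
  have hL1 := hL.le
  have hL2 : L.IsGE 0 := by
    rw [CochainComplex.isGE_iff]
    exact hL.exact
  obtain ⟨N, ⟨f⟩⟩ := CochainComplex.exists_iso_single (L.truncGE 0) 0
  let q : L ⟶ (single (ModuleCat.{u} A) (ComplexShape.up ℤ) 0).obj N := L.πTruncGE 0 ≫ f.hom
  have hq : QuasiIso q := inferInstance
  have h2 : QuasiIso (((TR A).map₂CochainComplex.map p).app L) := hLk.quasiIso p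
  have h4 : QuasiIso (((TR A).map₂CochainComplex.obj P).map q) := quasiIso_whiskerLeft hPk q
  refine (exactAt_iff_of_quasiIsoAt (((TR A).map₂CochainComplex.map p).app L) i).1 ?_
  refine (exactAt_iff_of_quasiIsoAt (((TR A).map₂CochainComplex.obj P).map q) i).2 ?_
  exact (h' N i (Or.inl hi)).of_iso (tensSingleIso P N)

lemma torGE_of_iso {a : ℤ} {K L : CM A} (e : K ≅ L) (h : TorGE a K) : TorGE a L := fun M hM i hi =>
  (h M hM i hi).of_iso (((TR A).map₂CochainComplex.mapIso e).app M)

variable {C : Type v} [Category.{w} C] [Abelian C] (X : Chart A C)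

theorem _root_.Groth.Agent.ResProp.EF.K294.Chart.flat_us_ul (N : ModuleCat.{u} A) (hN : Module.Flat A N) :
    Module.Flat A (X.us.obj (X.ul.obj N)) := by
  have h1 : TorGE 0 ((single (ModuleCat.{u} A) (ComplexShape.up ℤ) 0).obj N) :=
    torGE_of_torAmp _ 0 0 (torAmp_single N hN 0)
  have h2 := X.torGE_ul 0 _ h1
  have h3 : TorGE 0 ((single (ModuleCat.{u} A) (ComplexShape.up ℤ) 0).obj (X.us.obj (X.ul.obj N))) :=
    torGE_of_iso ((singleMapHomologicalComplex (X.ul ⋙ X.us) (ComplexShape.up ℤ) 0).app N) h2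
  exact flat_of_torAmp_single _ 0 (torAmp_of_torGE _ 0 0 h3 (fun i hi =>
    ExactAt.of_isZero (isZero_single_obj_X (ComplexShape.up ℤ) 0 _ i (by omega))))

/-- **LEMMA T** for charts -/
theorem _root_.Groth.Agent.ResProp.EF.K294.Chart.exists_roof (K : CochainComplex C ℤ) (a b a' b' : ℤ) (hab : a ≤ b)
    (haa' : a' ≤ a) [K.IsStrictlyGE a'] [K.IsStrictlyLE b'] (h : TorGE a (X.usC.obj K))
    (hb : ∀ i, b < i → K.ExactAt i) :
    ∃ (W F : CochainComplex C ℤ) (s : W ⟶ K) (t : W ⟶ F), QuasiIso s ∧ QuasiIso t ∧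
      W.IsStrictlyGE a' ∧ W.IsStrictlyLE b' ∧ F.IsStrictlyGE a ∧ F.IsStrictlyLE b ∧
      ∀ i, Module.Flat A (X.us.obj (F.X i)) := by
  have h1 : PreservesFiniteLimits X.us := X.exact_us
  have h2 : PreservesFiniteColimits X.us := by
    have := X.adj.leftAdjoint_preservesColimits
    infer_instance
  have h3 : PreservesFiniteLimits X.ul := by
    have := X.adj.rightAdjoint_preservesLimits
    infer_instance
  refine K119.exists_roof X.adj (fun N hN => X.flat_us_ul N hN) K a b a' b' hab haa' ?_
  refine torAmp_of_torGE _ a b h (fun i hi => ?_)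
  exact ShortComplex.Exact.map (hb i hi) X.us

end Groth.Agent.ResProp.EF.K119
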