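import Groth.Agent.ResProp.EF.K743.Iface2

/-!
# G1B-F6 `StmtPt`: the base point of the frame ring
-/

set_option autoImplicit false

universe u

open Groth.Agent.Grpsch.AffGrpd Groth.Agent.ResProp.EF.K743

namespace Groth.Agent.ResProp.EF.K119

variable {A Γ : Type u} [CommRing A] [CommRing Γ] (G : RGrpd A Γ)

lemma comp_congr {T : Type u} [CommRing T] {α β β' : Γ →+* T} (e : β = β') (h : α.comp G.s = β.comp G.t) :
    G.comp α β h = G.comp α β' (by rw [← e]; exact h) := by subst e; rfl

lemma e_i : G.e.comp G.i = G.e := by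
  have h1 : (G.e.comp G.i).comp G.s = RingHom.id A := by rw [RingHom.comp_assoc, G.i_s, G.e_t]
  have h2 := G.comp_e (G.e.comp G.i)
  have h3 : ((G.e.comp G.i).comp G.s).comp G.e = G.e := by rw [h1, RingHom.id_comp]
  rw [comp_congr G h3] at h2
  have h4 := G.i_comp G.e
  rw [G.e_s, RingHom.id_comp] at h4
  exact h2.symm.trans h4

theorem stmtPt : StmtPt.{u} := by
  intro A Γ _ _ G X m K _ x P R
  have hx : (x.comp G.e).comp G.s = (RingHom.id K).comp x := by
    rw [RingHom.comp_assoc, G.e_s, RingHom.comp_id, RingHom.id_comp]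
  let p0 : R.L →+* K := R.lift (RingHom.id K) (x.comp G.e) hx 1 1
  have hy : p0.comp R.y = RingHom.id K := R.lift_y _ _ hx 1 1
  have hγ : p0.comp R.γ = x.comp G.e := R.lift_γ _ _ hx 1 1
  have hl₁ : ∀ i j, p0 (R.l₁.1 i j) = (1 : Matrix (Fin P.r₁) (Fin P.r₁) K) i j := fun i j =>
    R.lift_l₁ _ _ hx 1 1 i j
  have hl₂ : ∀ i j, p0 (R.l₂.1 i j) = (1 : Matrix (Fin P.r₂) (Fin P.r₂) K) i j := fun i j =>
    R.lift_l₂ _ _ hx 1 1 i j
  have hl₁' : ∀ i j, p0 ((R.l₁⁻¹).1 i j) = (1 : Matrix (Fin P.r₁) (Fin P.r₁) K) i j := by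
    have h1 : (p0.mapMatrix R.l₁.1) = 1 := by
      ext i j
      exact hl₁ i j
    have h2 : (p0.mapMatrix (R.l₁⁻¹).1) = 1 := by
      have h3 : (R.l₁⁻¹).1 * R.l₁.1 = 1 := by
        have := congrArg Units.val (inv_mul_cancel R.l₁)
        exact this
      have h4 := congrArg p0.mapMatrix h3
      rw [map_mul, h1, mul_one, map_one] at h4
      exact h4
    intro i j
    exact congrFun (congrFun h2 i) j
  have hy' : ∀ z, p0 (R.y z) = z := fun z => congrArg (fun f => f z) hy
  have hγ' : ∀ z, p0 (R.γ z) = x (G.e z) := fun z => congrArg (fun f => f z) hγ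
  -- the coaction matrix at the identity
  have hc : ∀ (j : Fin X.n) (a : Fin P.r₁), ∑ k, x (G.e (X.c k j)) * P.V₁ k a = P.V₁ j a := by
    intro j a
    have key := P.inj₁ (RingHom.id K) (fun a => P.V₁ j a - ∑ k, x (G.e (X.c k j)) * P.V₁ k a) (by
      intro T' _ f h e
      have e' : h.comp G.s = f.comp x := by rw [e]; rfl
      have h1 : h.comp G.s = ((h.comp G.s).comp G.e).comp G.t := by
        rw [RingHom.comp_assoc, G.e_t, RingHom.comp_id]
      have h2 := X.hc h ((h.comp G.s).comp G.e) h1 j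
      rw [G.comp_e h] at h2
      have h3 : ∀ k, ((h.comp G.s).comp G.e) (X.c k j) = f (x (G.e (X.c k j))) := fun k => by
        rw [e']; rfl
      have h4 : ∀ k, h (X.x k) = ∑ a, P.w₁ (f.comp (RingHom.id K)) h e a * f (P.V₁ k a) := fun k =>
        P.hw₁ (f.comp (RingHom.id K)) h e k
      rw [h4 j] at h2
      have h5 : ∑ k, h (X.x k) * ((h.comp G.s).comp G.e) (X.c k j) =
          ∑ a, P.w₁ (f.comp (RingHom.id K)) h e a * f (∑ k, x (G.e (X.c k j)) * P.V₁ k a) := by
        simp only [h3, h4, Finset.sum_mul, map_sum, map_mul, Finset.mul_sum]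
        rw [Finset.sum_comm]
        refine Finset.sum_congr rfl fun a _ => Finset.sum_congr rfl fun k _ => ?_
        ring
      rw [h5] at h2
      simp only [map_sub, mul_sub, Finset.sum_sub_distrib]
      rw [h2, sub_self])
    have := congrFun key a
    exact (sub_eq_zero.1 this).symm
  let pt : (LRing.frameData P R).D →+* K := p0.comp (LRing.DL P R).subtype
  have hQ : ∀ (j : Fin X.n) (a : Fin P.r₁), pt ((LRing.frameData P R).Q₁ j a) = P.V₁ j a := by
    intro j a
    change p0 (LRing.Q₁L P R j a) = _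
    rw [LRing.Q₁L, map_sum]
    simp only [map_mul, map_sum, hγ', hl₁, hy']
    have h6 : ∀ k, x (G.e (G.i (X.c k j))) = x (G.e (X.c k j)) := fun k =>
      congrArg x (congrArg (fun f => f (X.c k j)) (e_i G))
    simp only [h6, Matrix.one_apply, ite_mul, one_mul, zero_mul, Finset.sum_ite_eq, Finset.mem_univ, if_true]
    exact hc j a
  have hμ : ∀ (κ : Fin m → Fin P.r₁) (b : Fin P.r₂), pt ((LRing.frameData P R).μ κ b) = P.μ₀ κ b := by
    intro κ b
    change p0 (LRing.μL P R κ b) = _
    rw [LRing.μL, map_sum]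
    simp only [map_mul, map_sum, map_prod, hl₂, hl₁', hy']
    rw [Finset.sum_eq_single b]
    · rw [Finset.sum_eq_single κ]
      · simp
      · intro κ' _ hκ
        obtain ⟨i, hi⟩ := Function.ne_iff.1 hκ
        rw [Finset.prod_eq_zero (Finset.mem_univ i), mul_zero]
        exact Matrix.one_apply_ne hi
      · intro h; exact absurd (Finset.mem_univ _) h
    · intro b' _ hb
      refine Finset.sum_eq_zero fun κ' _ => ?_
      rw [Matrix.one_apply_ne (Ne.symm hb), zero_mul, zero_mul]
    · intro h; exact absurd (Finset.mem_univ _) h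
  refine ⟨pt, ?_, ?_⟩
  · ext z
    change p0 (R.γ (G.t z)) = x z
    rw [hγ']
    exact congrArg x (congrArg (fun f => f z) G.e_t)
  · obtain ⟨I₁, hI₁⟩ := P.span₁
    obtain ⟨I₂, hI₂⟩ := P.span₂
    rw [FrameData.InW, Ideal.eq_top_iff_one]
    have hne : pt ((LRing.frameData P R).δ (I₁, I₂)) ≠ 0 := by
      rw [FrameData.δ, map_mul]
      refine mul_ne_zero ?_ ?_
      · have hM : pt.mapMatrix (Matrix.of fun i a => (LRing.frameData P R).Q₁ (I₁ i) a) =
            Matrix.of fun (i : Fin P.r₁) a => P.V₁ (I₁ i) a := by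
          ext i a
          exact hQ _ _
        have h9 : pt ((LRing.frameData P R).m₁ I₁) =
            (pt.mapMatrix (Matrix.of fun i a => (LRing.frameData P R).Q₁ (I₁ i) a)).det :=
          RingHom.map_det _ _
        rw [h9, hM]
        exact hI₁
      · have h9 : pt ((LRing.frameData P R).m₂ I₂) =
            (pt.mapMatrix (Matrix.of fun i b => (LRing.frameData P R).Q₂ (I₂ i) b)).det :=
          RingHom.map_det _ _
        have hM : pt.mapMatrix (Matrix.of fun i b => (LRing.frameData P R).Q₂ (I₂ i) b) =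
            Matrix.of fun (i : Fin P.r₂) b => ∑ κ : Fin m → Fin P.r₁, (∏ k, P.V₁ (I₂ i k) (κ k)) * P.μ₀ κ b := ?_
        · rw [h9, hM]
          exact hI₂
        ext i b
        change pt (∑ κ : Fin m → Fin (LRing.frameData P R).r₁,
          (∏ k, (LRing.frameData P R).Q₁ (I₂ i k) (κ k)) * (LRing.frameData P R).μ κ b) = _
        rw [map_sum]
        refine Finset.sum_congr rfl fun κ _ => ?_
        rw [map_mul, map_prod]
        congr 1
        · exact Finset.prod_congr rfl fun k _ => hQ _ _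
        · exact hμ _ _
    have h7 : pt ((LRing.frameData P R).δ (I₁, I₂)) ∈
        Ideal.span (Set.range fun I => pt ((LRing.frameData P R).δ I)) :=
      Ideal.subset_span ⟨(I₁, I₂), rfl⟩
    have h8 := Ideal.mul_mem_left _ (pt ((LRing.frameData P R).δ (I₁, I₂)))⁻¹ h7
    rwa [inv_mul_cancel₀ hne] at h8

end Groth.Agent.ResProp.EF.K119
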